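import Groth.Agent.Lib.AssPts.Primary
import Groth.Agent.Lib.ZClos.Basic
import Groth.Prelude.Def_CurvBase

/-!
# The largest subsheaf with nowhere dense support
-/

set_option autoImplicit false
set_option linter.all false
set_option backward.isDefEq.respectTransparency false

universe u

open CategoryTheory CategoryTheory.Limits AlgebraicGeometry Opposite TopologicalSpace

namespace GrothLib.NoEmb12

open GrothLib.WeakAss GrothLib.AssPts GrothLib.QCoh GrothLib.Primary

variable {X : Scheme.{u}} (F : X.Modules)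

/-- The maximal points of the support. -/
def maxPts : Set X := {η | η ∈ CohB1.support F ∧ ∀ y ∈ CohB1.support F, y ⤳ η → y = η}

/-- Sections vanishing at the maximal points of the support. -/
noncomputable def genZero : SubData F where
  sec V :=
    { carrier := {s | ∀ η ∈ maxPts F, ∀ hη : η ∈ V, F.presheaf.germ V η hη s = 0}
      add_mem' := fun hs ht η h hη => by rw [map_add, hs η h hη, ht η h hη, add_zero]
      zero_mem' := fun η _ hη => map_zero _
      smul_mem' := fun r s hs η h hη => by rw [WeakAss.germ_smul, hs η h hη, smul_zero] }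
  map_mem i s hs η h hη := by rw [germ_map]; exact hs η h (i.le hη)
  locality {U} s h η hm hη := by
    obtain ⟨V, i, hxV, hV⟩ := h η hη
    exact (germ_map F i hxV s).symm.trans (hV η hm hxV)

variable [IsLocallyNoetherian X]

theorem exists_maxPt (hF : Coh.IsCoh F) {x : X} (hx : x ∈ CohB1.support F) :
    ∃ η ∈ maxPts F, η ⤳ x := by
  have : F.IsQuasicoherent := hF.1
  obtain ⟨_, ⟨V, hV, rfl⟩, hxV, -⟩ :=
    X.isBasis_affineOpens.exists_subset_of_mem_open (Set.mem_univ x) isOpen_univ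
  have hV : IsAffineOpen V := hV
  have hxV : x ∈ V := hxV
  have := IsLocallyNoetherian.component_noetherian ⟨V, hV⟩
  have := QCoh.moduleFinite_of_isFiniteType F hF.2 hV
  obtain ⟨P, hP, hPx⟩ := Ideal.exists_minimalPrimes_le
    (Module.mem_support_iff_of_finite.mp ((QCoh.mem_support_iff_primeAt F hV hxV).mp hx))
  obtain ⟨y, hy, rfl⟩ := exists_point hV P hP.1.1
  refine ⟨y, ⟨(QCoh.mem_support_iff_primeAt F hV hy).mpr (Module.mem_support_iff_of_finite.mpr hP.1.2),
    fun z hz hzy => ?_⟩, (specializes_iff hV hy hxV).mpr hPx⟩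
  have hzV : z ∈ V := hzy.mem_open V.2 hy
  have h1 := (specializes_iff hV hzV hy).mp hzy
  have h2 := Module.mem_support_iff_of_finite.mp ((QCoh.mem_support_iff_primeAt F hV hzV).mp hz)
  exact primeAt_injective hV hzV hy (le_antisymm h1 (hP.2 ⟨inferInstance, h2⟩ h1))

theorem maxPts_subset_ass (hF : Coh.IsCoh F) : maxPts F ⊆ AssSch.Ass F := fun η hη => by
  have : F.IsQuasicoherent := hF.1
  exact (isAssPoint_iff_isWeakAssPoint η).mpr (isWeakAssPoint_of_maximal hη.1 hη.2)

theorem finite_maxPts_inter (hF : Coh.IsCoh F) {V : X.Opens} (hV : IsAffineOpen V) :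
    (maxPts F ∩ (V : Set X)).Finite :=
  (finite_ass_inter_affine F hF hV).subset (Set.inter_subset_inter_left _ (maxPts_subset_ass F hF))

/-- At a maximal point of the support the maximal ideal acts nilpotently on every germ. -/
theorem exists_pow_germ_eq_zero (hF : Coh.IsCoh F) {U : X.Opens} (hU : IsAffineOpen U) {η : X}
    (hη : η ∈ maxPts F) (hηU : η ∈ U) {g : Γ(X, U)} (hg : g ∈ primeAt η hηU) (t : Γ(F, U)) :
    ∃ n : ℕ, F.presheaf.germ U η hηU (g ^ n • t) = 0 := by
  have : F.IsQuasicoherent := hF.1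
  have := IsLocallyNoetherian.component_noetherian ⟨U, hU⟩
  have := QCoh.moduleFinite_of_isFiniteType F hF.2 hU
  set I := Module.annihilator Γ(X, U) Γ(F, U) with hI
  let S : Submonoid Γ(X, U) := (primeAt η hηU).primeCompl ⊔ Submonoid.powers g
  by_cases hd : Disjoint (I : Set Γ(X, U)) (S : Set Γ(X, U))
  · obtain ⟨q, hq, hIq, hqS⟩ := Ideal.exists_le_prime_disjoint I S hd
    have hle : q ≤ primeAt η hηU := fun a ha => by
      by_contra hc
      exact Set.disjoint_left.1 hqS ha ((le_sup_left : _ ≤ S) hc)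
    have hgq : g ∉ q := fun h => Set.disjoint_left.1 hqS h ((le_sup_right : _ ≤ S) (Submonoid.mem_powers g))
    obtain ⟨y, hy, rfl⟩ := exists_point hU q hq
    have hsupp : y ∈ CohB1.support F :=
      (QCoh.mem_support_iff_primeAt F hU hy).mpr (Module.mem_support_iff_of_finite.mpr hIq)
    obtain rfl := hη.2 y hsupp ((specializes_iff hU hy hηU).mpr hle)
    exact absurd hg hgq
  · obtain ⟨z, hzI, hzS⟩ := Set.not_disjoint_iff.1 hd
    obtain ⟨c, hc, _, ⟨n, rfl⟩, rfl⟩ := Submonoid.mem_sup.1 hzS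
    refine ⟨n, (germ_eq_zero_iff hU hηU _).mpr ⟨c, hc, ?_⟩⟩
    rw [smul_smul]
    exact Module.mem_annihilator.1 hzI t

theorem genZero_isQuasicoherent (hF : Coh.IsCoh F) : (genZero F).obj.IsQuasicoherent := by
  classical
  have := hF.1
  refine (genZero F).isQuasicoherent fun U hU g t ht => ?_
  have key : ∀ η : ↥(maxPts F ∩ (U : Set X)), ∃ n : ℕ,
      F.presheaf.germ U η.1 η.2.2 (g ^ n • t) = 0 := fun ⟨η, hη, hηU⟩ => by
    by_cases hg : η ∈ X.basicOpen g
    · refine ⟨0, ?_⟩
      rw [pow_zero, one_smul]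
      exact (germ_map F (homOfLE (X.basicOpen_le g)) hg t).symm.trans (ht η hη hg)
    · exact exists_pow_germ_eq_zero F hF hU hη hηU (by
        by_contra h; exact hg (notMem_primeAt_iff.mp h)) t
  choose n hn using key
  have := (finite_maxPts_inter F hF hU).fintype
  refine ⟨Finset.univ.sup n, fun η hη hηU => ?_⟩
  have hk := hn ⟨η, hη, hηU⟩
  rw [← Nat.sub_add_cancel (Finset.le_sup (f := n) (Finset.mem_univ ⟨η, hη, hηU⟩)), pow_add,
    mul_smul, WeakAss.germ_smul, hk, smul_zero]

theorem genZero_isCoh (hF : Coh.IsCoh F) : Coh.IsCoh (genZero F).obj :=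
  have := genZero_isQuasicoherent F hF
  ⟨this, (genZero F).isFiniteType hF⟩

omit [IsLocallyNoetherian X] in
theorem notMem_support_genZero {η : X} (hη : η ∈ maxPts F) : η ∉ CohB1.support (genZero F).obj := by
  refine not_not.2 (subsingleton_of_forall_eq 0 fun e => ?_)
  obtain ⟨V, hV, s, rfl⟩ := TopCat.Presheaf.exists_germ_eq (genZero F).obj.presheaf e
  refine stalkLin_injective (genZero F).ι η ?_
  rw [map_zero, stalkLin_germ]
  exact (genZero F).ι_app_mem s η hη hV

theorem nowhereDense_genZero (hF : Coh.IsCoh F) (U : X.Opens)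
    (h : (U : Set X) ∩ CohB1.support F ⊆ CohB1.support (genZero F).obj) :
    (U : Set X) ∩ CohB1.support F = ∅ := by
  refine Set.eq_empty_iff_forall_notMem.2 fun x hx => ?_
  obtain ⟨η, hη, hηx⟩ := exists_maxPt F hF hx.2
  exact notMem_support_genZero F hη (h ⟨hηx.mem_open U.2 hx.1, hη.1⟩)

omit [IsLocallyNoetherian X] in
theorem exists_nhd_maxPt {V : X.Opens} (hfin : (maxPts F ∩ (V : Set X)).Finite) {η : X}
    (hη : η ∈ maxPts F) (hηV : η ∈ V) :
    ∃ U : X.Opens, η ∈ U ∧ U ≤ V ∧ ∀ y ∈ maxPts F, ∀ x ∈ U, y ⤳ x → y = η := by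
  let T := (maxPts F ∩ (V : Set X)) \ {η}
  have hc : IsClosed (⋃ y ∈ T, closure ({y} : Set X)) :=
    (hfin.subset Set.diff_subset).isClosed_biUnion fun _ _ => isClosed_closure
  refine ⟨V ⊓ ⟨_, hc.isOpen_compl⟩, ⟨hηV, fun h => ?_⟩, inf_le_left, fun y hy x hx hyx => ?_⟩
  · obtain ⟨y, hy, hyη⟩ := Set.mem_iUnion₂.1 h
    exact hy.2 (hη.2 y hy.1.1.1 (specializes_iff_mem_closure.2 hyη))
  · by_contra hne
    exact hx.2 (Set.mem_iUnion₂.2 ⟨y, ⟨⟨hy, hyx.mem_open V.2 hx.1⟩, hne⟩, specializes_iff_mem_closure.1 hyx⟩)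

theorem maxPt_notMem_support (hF : Coh.IsCoh F) {G : X.Modules} (hG : Coh.IsCoh G)
    (hd : ∀ U : X.Opens, (U : Set X) ∩ CohB1.support F ⊆ CohB1.support G → (U : Set X) ∩ CohB1.support F = ∅)
    {η : X} (hη : η ∈ maxPts F) : η ∉ CohB1.support G := by
  intro hs
  obtain ⟨_, ⟨V, hV, rfl⟩, hηV, -⟩ :=
    X.isBasis_affineOpens.exists_subset_of_mem_open (Set.mem_univ η) isOpen_univ
  obtain ⟨U, hηU, -, hU⟩ := exists_nhd_maxPt F (finite_maxPts_inter F hF (V := V) hV) hη hηV
  refine Set.eq_empty_iff_forall_notMem.1 (hd U fun x hx => ?_) η ⟨hηU, hη.1⟩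
  obtain ⟨y, hy, hyx⟩ := exists_maxPt F hF hx.2
  obtain rfl := hU y hy x hx.1 hyx
  exact hyx.mem_closed (isClosed_support_of_isCoh hG) hs

omit [IsLocallyNoetherian X] in
theorem comp_π_eq_zero {G : X.Modules} (f : G ⟶ F)
    (h : ∀ η ∈ maxPts F, η ∉ CohB1.support G) : f ≫ cokernel.π (genZero F).ι = 0 := by
  refine Scheme.Modules.hom_ext _ _ fun V => ?_
  ext s
  show (cokernel.π (genZero F).ι).app V (f.app V s) = 0
  rw [π_app_eq_zero_iff]
  intro η hη hηV
  have := stalk_subsingleton_of_notMem (h η hη)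
  rw [← stalkLin_germ f hηV s, Subsingleton.elim (G.presheaf.germ V η hηV s) 0]
  exact map_zero _

theorem support_cokernel (hF : Coh.IsCoh F) :
    CohB1.support (cokernel (genZero F).ι) = CohB1.support F := by
  refine (support_subset_of_epi (cokernel.π _)).antisymm fun x hx => ?_
  obtain ⟨η, hη, hηx⟩ := exists_maxPt F hF hx
  refine hηx.mem_closed (isClosed_support_of_isCoh (isCoh_cokernel _ (genZero_isCoh F hF) hF)) ?_
  have hex : (ShortComplex.mk (genZero F).ι (cokernel.π _) (cokernel.condition _)).ShortExact :=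
    { exact := ShortComplex.exact_cokernel _ }
  exact (support_subset_union hex hη.1).resolve_left (notMem_support_genZero F hη)

theorem ass_cokernel_subset (hF : Coh.IsCoh F) {x : X}
    (hx : Curv2.IsAssPoint (cokernel (genZero F).ι) x) : x ∈ maxPts F := by
  have := hF.1
  have hN := genZero_isQuasicoherent F hF
  have hQ := (isCoh_cokernel (genZero F).ι (genZero_isCoh F hF) hF).1
  obtain ⟨_, ⟨V, hV, rfl⟩, hxV, -⟩ :=
    X.isBasis_affineOpens.exists_subset_of_mem_open (Set.mem_univ x) isOpen_univ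
  have hV : IsAffineOpen V := hV
  have hxV : x ∈ V := hxV
  have := IsLocallyNoetherian.component_noetherian ⟨V, hV⟩
  have hsupp : x ∈ CohB1.support F :=
    (support_subset_of_epi (cokernel.π (genZero F).ι)) (mem_support_of_isAssPoint _ hx)
  have h := (ass_iff (cokernel (genZero F).ι) hV hxV).mp hx
  rw [AssociatedPrimes.mem_iff, isAssociatedPrime_iff] at h
  obtain ⟨-, z, hz⟩ := h
  obtain ⟨z, rfl⟩ := @app_surjective_of_isAffineOpen _
    (ShortComplex.mk (genZero F).ι (cokernel.π _) (cokernel.condition _))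
    { exact := ShortComplex.exact_cokernel _ } hN V hV z
  have hmem : ∀ a : Γ(X, V), a ∈ primeAt x hxV ↔ a • z ∈ (genZero F).sec V := fun a => by
    rw [hz, Submodule.mem_colon_singleton, Submodule.mem_bot, ← π_app_eq_zero_iff]
    exact (Eq.congr_left ((appLinear (cokernel.π (genZero F).ι) V).map_smul a z).symm)
  have h1 : z ∉ (genZero F).sec V := fun h1 =>
    (Ideal.ne_top_iff_one _).mp Ideal.IsPrime.ne_top' ((hmem 1).mpr (by rwa [one_smul]))
  obtain ⟨η, hη, hηV, hne⟩ : ∃ η ∈ maxPts F, ∃ hηV : η ∈ V, F.presheaf.germ V η hηV z ≠ 0 := by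
    by_contra hc
    exact h1 fun η hη hηV => by_contra fun h => hc ⟨η, hη, hηV, h⟩
  suffices hsp : x ⤳ η by exact hη.2 x hsupp hsp ▸ hη
  refine (specializes_iff hV hxV hηV).mpr fun a ha => ?_
  by_contra hc
  have h0 := (hmem a).mp ha η hη hηV
  rw [WeakAss.germ_smul] at h0
  exact hne (((Scheme.mem_basicOpen _ a η hηV).mp (notMem_primeAt_iff.mp hc)).smul_eq_zero.mp h0)

omit [IsLocallyNoetherian X] in
theorem isIso_restrict_π (hK : (genZero F).obj.IsQuasicoherent) (U : X.Opens)
    (hU : ∀ x ∈ U, x ∉ CohB1.support (genZero F).obj) :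
    IsIso ((Scheme.Modules.restrictFunctor U.ι).map (cokernel.π (genZero F).ι)) := by
  refine ZClosure.isIso_of_basis _ fun x W₀ hx => ?_
  obtain ⟨_, ⟨W, hW, rfl⟩, hxW, hWW₀⟩ :=
    U.toScheme.isBasis_affineOpens.exists_subset_of_mem_open hx W₀.2
  refine ⟨W, hxW, hWW₀, ?_⟩
  have hW' : IsAffineOpen (U.ι ''ᵁ W) := IsAffineOpen.image_of_isOpenImmersion hW U.ι
  have hle : U.ι ''ᵁ W ≤ U := (U.ι.image_le_opensRange W).trans U.opensRange_ι.le
  show Function.Bijective ((cokernel.π (genZero F).ι).app (U.ι ''ᵁ W))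
  refine ⟨(injective_iff_map_eq_zero _).2 fun s hs => ?_, fun z => ?_⟩
  · have hs' := (π_app_eq_zero_iff _ _ _).1 hs
    have h0 : (genZero F).lift s hs' = 0 := section_eq_zero_of_germ _ _ fun y hy =>
      @Subsingleton.elim _ (stalk_subsingleton_of_notMem (hU y (hle hy))) _ _
    exact ((genZero F).ι_app_lift s hs').symm.trans ((congrArg _ h0).trans (map_zero _))
  · exact @app_surjective_of_isAffineOpen _
      (ShortComplex.mk (genZero F).ι (cokernel.π _) (cokernel.condition _))
      { exact := ShortComplex.exact_cokernel _ } hK (U.ι ''ᵁ W) hW' z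

end GrothLib.NoEmb12
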